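import Groth.Agent.GrpschSep.AnyTypeField

/-!
The orbit of a rational point under the neutral component is its connected component, for a
transitive action of an arbitrary group scheme over a field.
-/

set_option autoImplicit false
set_option linter.style.haveILetI false

universe u

open CategoryTheory CategoryTheory.Limits MonoidalCategory CartesianMonoidalCategory MonObj GrpObj
  AlgebraicGeometry

noncomputable section

namespace Groth.Sga3.OrbitComp

open Groth.GrpschSep

variable {k : Type u} [Field k] {G X : Over (Spec (CommRingCat.of k))}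
  {K : Type u} [Field K] {t : Spec (CommRingCat.of K) ⟶ Spec (CommRingCat.of k)}

/-- The point of `Y ⊗ K` given by a `K`-valued point of `Y`. -/
abbrev ptOf {Y : Over (Spec (CommRingCat.of k))} (r : Over.mk t ⟶ Y) : (Y ⊗ Over.mk t).left :=
  (lift r (𝟙 (Over.mk t))).left (IsLocalRing.closedPoint K)

theorem apply_ptOf {Y : Over (Spec (CommRingCat.of k))} (r s : Over.mk t ⟶ Y)
    (F : Y ⊗ Over.mk t ⟶ Y ⊗ Over.mk t) (h : lift r (𝟙 _) ≫ F = lift s (𝟙 _)) : F.left (ptOf r) = ptOf s :=
  congr(($h).left.base (IsLocalRing.closedPoint K))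

theorem fst_ptOf {Y : Over (Spec (CommRingCat.of k))} (r : Over.mk t ⟶ Y) :
    (fst Y (Over.mk t)).left (ptOf r) = r.left (IsLocalRing.closedPoint K) :=
  congr(($(lift_fst r (𝟙 (Over.mk t)))).left.base (IsLocalRing.closedPoint K))

variable [GrpObj G] [IsAlgClosed K]

/-- The `K`-point lies on the maximal point of the unit. -/
def InNeutral (r : Over.mk t ⟶ G) : Prop :=
  ∀ m : (G ⊗ Over.mk t).left, IsMaxPt m → m ⤳ unitPt G t → m ⤳ ptOf r

theorem eq_of_unit {m m' : (G ⊗ Over.mk t).left} (hm : IsMaxPt m) (hm' : IsMaxPt m')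
    (h : m ⤳ unitPt G t) (h' : m' ⤳ unitPt G t) : m = m' :=
  uniqueMax_group' _ _ _ hm hm' h h'

theorem InNeutral.of_eq {r : Over.mk t ⟶ G} {η₀ : G.left} (hη₀ : IsMaxPt η₀)
    (he : η₀ ⤳ η[G].left (IsLocalRing.closedPoint k)) (h : η₀ ⤳ r.left (IsLocalRing.closedPoint K)) :
    InNeutral r := by
  intro m hm hme
  obtain ⟨m', hm'r, hm'⟩ := exists_isMaxPt (ptOf r)
  have h1 : (fst G (Over.mk t)).left m' = η₀ := uniqueMax_grp (r.left (IsLocalRing.closedPoint K)) _ _
    (hm'.map_flat _) hη₀ ((hm'r.map (fst G (Over.mk t)).left.continuous).trans (specializes_of_eq (fst_ptOf r))) h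
  rw [eq_of_unit hm hm' hme (specializes_unitPt hm' (IsLocalRing.closedPoint k) (h1.symm ▸ he))]
  exact hm'r

theorem fst_unitPt : (fst G (Over.mk t)).left (unitPt G t) = η[G].left (IsLocalRing.closedPoint k) := by
  refine (fst_ptOf (1 : Over.mk t ⟶ G)).trans ?_
  rw [Hom.one_def, Over.comp_left, Scheme.Hom.comp_apply]
  exact congrArg η[G].left (Subsingleton.elim (α := ↥(Spec (CommRingCat.of k))) _ _)

theorem InNeutral.mem {r : Over.mk t ⟶ G} (h : InNeutral r) {η₀ : G.left} (hη₀ : IsMaxPt η₀)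
    (he : η₀ ⤳ η[G].left (IsLocalRing.closedPoint k)) : η₀ ⤳ r.left (IsLocalRing.closedPoint K) := by
  obtain ⟨m, hme, hm⟩ := exists_isMaxPt (unitPt G t)
  have h1 : (fst G (Over.mk t)).left m = η₀ := uniqueMax_grp _ _ _ (hm.map_flat _) hη₀
    ((hme.map (fst G (Over.mk t)).left.continuous).trans (specializes_of_eq fst_unitPt)) he
  rw [← h1]
  exact ((h m hm hme).map (fst G (Over.mk t)).left.continuous).trans (specializes_of_eq (fst_ptOf r))

/-- Left translation of the geometric group by a point. -/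
def ltr (r : Over.mk t ⟶ G) : G ⊗ Over.mk t ≅ G ⊗ Over.mk t where
  hom := lift ((snd _ _ ≫ r) * fst _ _) (snd _ _)
  inv := lift ((snd _ _ ≫ r)⁻¹ * fst _ _) (snd _ _)
  hom_inv_id := by apply CartesianMonoidalCategory.hom_ext <;> simp [MonObj.comp_mul, GrpObj.comp_inv]
  inv_hom_id := by apply CartesianMonoidalCategory.hom_ext <;> simp [MonObj.comp_mul, GrpObj.comp_inv]

omit [IsAlgClosed K] in
theorem ltr_ptOf (r s : Over.mk t ⟶ G) : (ltr r).hom.left (ptOf s) = ptOf (r * s) :=
  apply_ptOf s (r * s) (ltr r).hom (by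
    apply CartesianMonoidalCategory.hom_ext <;> simp [ltr, MonObj.comp_mul])

/-- Conjugation of the geometric group by a point. -/
def conjT (r : Over.mk t ⟶ G) : G ⊗ Over.mk t ≅ G ⊗ Over.mk t where
  hom := lift ((snd _ _ ≫ r) * fst _ _ * (snd _ _ ≫ r)⁻¹) (snd _ _)
  inv := lift ((snd _ _ ≫ r)⁻¹ * fst _ _ * (snd _ _ ≫ r)) (snd _ _)
  hom_inv_id := by apply CartesianMonoidalCategory.hom_ext <;> simp [MonObj.comp_mul, GrpObj.comp_inv, _root_.mul_assoc]
  inv_hom_id := by apply CartesianMonoidalCategory.hom_ext <;> simp [MonObj.comp_mul, GrpObj.comp_inv, _root_.mul_assoc]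

omit [IsAlgClosed K] in
theorem conjT_ptOf (r s : Over.mk t ⟶ G) : (conjT r).hom.left (ptOf s) = ptOf (r * s * r⁻¹) :=
  apply_ptOf s (r * s * r⁻¹) (conjT r).hom (by
    apply CartesianMonoidalCategory.hom_ext <;> simp [conjT, MonObj.comp_mul, GrpObj.comp_inv])

theorem InNeutral.mul {r s : Over.mk t ⟶ G} (hr : InNeutral r) (hs : InNeutral s) : InNeutral (r * s) := by
  intro m hm hme
  haveI : IsIso (ltr r).hom.left := ((Over.forget _).mapIso (ltr r)).isIso_hom
  have h1 : (ltr r).hom.left m ⤳ ptOf r :=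
    (hme.map (ltr r).hom.left.continuous).trans (specializes_of_eq ((ltr_ptOf r 1).trans (by rw [_root_.mul_one])))
  have h2 : (ltr r).hom.left m = m := uniqueMax_group' _ _ _ (hm.map_flat _) hm h1 (hr m hm hme)
  rw [← h2]
  exact ((hs m hm hme).map (ltr r).hom.left.continuous).trans (specializes_of_eq (ltr_ptOf r s))

theorem InNeutral.inv {r : Over.mk t ⟶ G} (hr : InNeutral r) : InNeutral r⁻¹ := by
  intro m hm hme
  haveI : IsIso (ltr r⁻¹).hom.left := ((Over.forget _).mapIso (ltr r⁻¹)).isIso_hom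
  have h1 : (ltr r⁻¹).hom.left m ⤳ unitPt G t :=
    ((hr m hm hme).map (ltr r⁻¹).hom.left.continuous).trans
      (specializes_of_eq ((ltr_ptOf r⁻¹ r).trans (by rw [inv_mul_cancel])))
  rw [← eq_of_unit (hm.map_flat (ltr r⁻¹).hom.left) hm h1 hme]
  exact (hme.map (ltr r⁻¹).hom.left.continuous).trans
    (specializes_of_eq ((ltr_ptOf r⁻¹ 1).trans (by rw [_root_.mul_one])))

theorem InNeutral.conj {r : Over.mk t ⟶ G} (g : Over.mk t ⟶ G) (hr : InNeutral r) : InNeutral (g * r * g⁻¹) := by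
  intro m hm hme
  haveI : IsIso (conjT g).hom.left := ((Over.forget _).mapIso (conjT g)).isIso_hom
  have h1 : (conjT g).hom.left m ⤳ unitPt G t :=
    (hme.map (conjT g).hom.left.continuous).trans (specializes_of_eq ((conjT_ptOf g 1).trans (by simp)))
  rw [← eq_of_unit (hm.map_flat (conjT g).hom.left) hm h1 hme]
  exact ((hr m hm hme).map (conjT g).hom.left.continuous).trans (specializes_of_eq (conjT_ptOf g r))

variable (a : AlgGrp.Action G X) (hΦ : Surjective (lift a.act (snd G X)).left)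

omit [IsAlgClosed K] in
/-- The automorphism of `X ⊗ K` given by a point. -/
def actIso (g : Over.mk t ⟶ G) : X ⊗ Over.mk t ≅ X ⊗ Over.mk t where
  hom := lift (lift (snd _ _ ≫ g) (fst _ _) ≫ a.act) (snd _ _)
  inv := lift (lift (snd _ _ ≫ g)⁻¹ (fst _ _) ≫ a.act) (snd _ _)
  hom_inv_id := by
    apply CartesianMonoidalCategory.hom_ext
    · simp only [Category.assoc, lift_fst, Category.id_comp]
      rw [← Category.assoc, comp_lift, GrpObj.comp_inv, lift_fst, lift_snd_assoc,
        Groth.AlgGrp2.lift_inv_act]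
    · simp
  inv_hom_id := by
    apply CartesianMonoidalCategory.hom_ext
    · simp only [Category.assoc, lift_fst, Category.id_comp]
      rw [← Category.assoc, comp_lift, lift_fst, lift_snd_assoc, Groth.AlgGrp2.lift_act_inv]
    · simp

variable (x : 𝟙_ (Over (Spec (CommRingCat.of k))) ⟶ X)

omit [IsAlgClosed K] in
theorem comp_orbitMap {T : Over (Spec (CommRingCat.of k))} (q : T ⟶ G) :
    q ≫ a.orbitMap x = lift q (toUnit T ≫ x) ≫ a.act := by
  rw [AlgGrp.Action.orbitMap, ← Category.assoc, comp_lift, Category.comp_id, ← Category.assoc, comp_toUnit]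

omit [IsAlgClosed K] in
include hΦ in
theorem surjective_orbitMap : Surjective (a.orbitMap x).left := by
  let T0 : Over (Spec (CommRingCat.of k)) := Over.mk (closureBase k)
  haveI : Surjective (orb a (toUnit T0 ≫ x)).left := MorphismProperty.of_isPullback (isPullback_orb a _) hΦ
  haveI : Surjective (fst X T0).left :=
    MorphismProperty.of_isPullback (P := @Surjective) (Groth.AlgGrp2.isPullback_fst_snd X T0).flip
      (⟨fun x => ⟨IsLocalRing.closedPoint (AlgebraicClosure k), Subsingleton.elim _ _⟩⟩ :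
        Surjective (closureBase k))
  have h : orb a (toUnit T0 ≫ x) ≫ fst X T0 = fst G T0 ≫ a.orbitMap x := by
    rw [comp_orbitMap, orb, lift_fst, ← Category.assoc (snd G T0), comp_toUnit]
  refine ⟨fun y => ?_⟩
  obtain ⟨z, hz⟩ := ((orb a (toUnit T0 ≫ x)).left ≫ (fst X T0).left).surjective y
  refine ⟨(fst G T0).left z, ?_⟩
  rw [← Scheme.Hom.comp_apply, ← Over.comp_left, ← h]
  exact hz

omit [IsAlgClosed K] in
include hΦ in
theorem exists_orbit_eq (θ : X.left) (hθ : IsMaxPt θ) (hθx : θ ⤳ x.left (IsLocalRing.closedPoint k))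
    (hirr : ∀ (L : Type u) [Field L] (t : Spec (CommRingCat.of L) ⟶ Spec (CommRingCat.of k)),
      IsIrreducible ((fst X (Over.mk t)).left.base ⁻¹' closure {θ}))
    {η₀ : G.left} (hη₀ : IsMaxPt η₀) (he : η₀ ⤳ η[G].left (IsLocalRing.closedPoint k))
    {y : X.left} (hy : θ ⤳ y) : ∃ c, η₀ ⤳ c ∧ (a.orbitMap x).left c = y := by
  obtain ⟨g₀, hg₀⟩ := (surjective_orbitMap a hΦ x).1 y
  obtain ⟨K, _, _, t, g, hg⟩ := exists_geomPoint G g₀
  let T : Over (Spec (CommRingCat.of k)) := Over.mk t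
  let xT : T ⟶ X := toUnit T ≫ x
  have hxT : xT.left (IsLocalRing.closedPoint K) = x.left (IsLocalRing.closedPoint k) := by
    show (toUnit T ≫ x).left _ = _
    rw [Over.comp_left, Scheme.Hom.comp_apply]
    exact congrArg x.left (Subsingleton.elim (α := ↥(Spec (CommRingCat.of k))) _ _)
  have hyT : (lift g xT ≫ a.act).left (IsLocalRing.closedPoint K) = y := by
    rw [show lift g xT ≫ a.act = g ≫ a.orbitMap x from (comp_orbitMap a x g).symm, Over.comp_left,
      Scheme.Hom.comp_apply, hg, hg₀]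
  obtain ⟨ηT, hηe, hηT⟩ := exists_isMaxPt (unitPt G t)
  have hfη : (fst G T).left ηT = η₀ := uniqueMax_grp _ _ _ (hηT.map_flat _) hη₀
    ((hηe.map (fst G T).left.continuous).trans (specializes_of_eq fst_unitPt)) he
  let o := orb a xT
  let n := o.left ηT
  obtain ⟨hn₁, hn₂⟩ := orb_unit_specializes a hΦ xT hηT hηe
  have hnθ : (fst X T).left n = θ := uniqueMax_action a hΦ _ _ _ hn₁ hθ hn₂ (hxT.symm ▸ hθx)
  let A := actIso a g
  haveI : IsIso A.hom.left := ((Over.forget _).mapIso A).isIso_hom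
  have hnx : n ⤳ ptOf xT := by
    refine (hηe.map o.left.continuous).trans (specializes_of_eq ?_)
    have h : lift (1 : T ⟶ G) (𝟙 T) ≫ o = lift xT (𝟙 T) := by
      apply CartesianMonoidalCategory.hom_ext
      · simp only [o, orb, Category.assoc, lift_fst]
        rw [← Category.assoc, comp_lift, lift_fst, lift_snd_assoc, Category.id_comp, Groth.AlgGrp2.lift_one_act]
      · simp [o, orb]
    exact congr(($h).left.base (IsLocalRing.closedPoint K))
  have hAx : A.hom.left (ptOf xT) = ptOf (lift g xT ≫ a.act) := apply_ptOf _ _ A.hom (by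
    apply CartesianMonoidalCategory.hom_ext
    · simp only [A, actIso, Category.assoc, lift_fst]
      rw [← Category.assoc, comp_lift, lift_fst, lift_snd_assoc, Category.id_comp]
    · simp [A, actIso])
  have hn' : IsMaxPt (A.hom.left n) := (isMaxPt_orb' a hΦ xT hηT).map_flat _
  have hn'θ : (fst X T).left (A.hom.left n) = θ := uniqueMax_action a hΦ y _ _ (hn'.map_flat _) hθ
    ((((hnx.map A.hom.left.continuous).trans (specializes_of_eq hAx)).map (fst X T).left.continuous).trans
      (specializes_of_eq ((fst_ptOf _).trans hyT))) hy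
  have hnA : n = A.hom.left n := by
    obtain ⟨ρ, hρ⟩ := QuasiSober.sober (hirr K t) (isClosed_closure.preimage (fst X T).left.continuous)
    have e1 : ρ = n := (isMaxPt_orb' a hΦ xT hηT) ρ
      (hρ.specializes (show (fst X T).left n ∈ closure {θ} from hnθ.symm ▸ subset_closure rfl))
    have e2 : ρ = A.hom.left n := hn' ρ
      (hρ.specializes (show (fst X T).left (A.hom.left n) ∈ closure {θ} from hn'θ.symm ▸ subset_closure rfl))
    exact e1.symm.trans e2
  obtain ⟨z, hz₁, hz₂⟩ := Scheme.Pullback.exists_preimage_pullback (f := o.left) (g := (o ≫ A.hom).left) ηT ηT hnA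
  obtain ⟨M, _, _, P, hP⟩ : ∃ (M : Type u) (_ : Field M) (_ : IsAlgClosed M)
      (P : Spec (CommRingCat.of M) ⟶ pullback o.left (o ≫ A.hom).left), P (IsLocalRing.closedPoint M) = z :=
    ⟨AlgebraicClosure ((pullback o.left (o ≫ A.hom).left).residueField z), inferInstance, inferInstance,
      Spec.map (CommRingCat.ofHom (algebraMap ((pullback o.left (o ≫ A.hom).left).residueField z) _)) ≫
        (pullback o.left (o ≫ A.hom).left).fromSpecResidueField z, Scheme.fromSpecResidueField_apply z _⟩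
  let t' : Spec (CommRingCat.of M) ⟶ Spec (CommRingCat.of k) := (P ≫ pullback.fst _ _) ≫ (G ⊗ T).hom
  let P₁ : Over.mk t' ⟶ G ⊗ T := Over.homMk (P ≫ pullback.fst _ _) rfl
  let P₂ : Over.mk t' ⟶ G ⊗ T := Over.homMk (P ≫ pullback.snd _ _) (by
    show (P ≫ pullback.snd _ _) ≫ (G ⊗ T).hom = (P ≫ pullback.fst _ _) ≫ (G ⊗ T).hom
    rw [Category.assoc, Category.assoc]
    conv_lhs => rw [← Over.w (o ≫ A.hom), ← pullback.condition_assoc, Over.w o])
  have hPeq : P₁ ≫ o = P₂ ≫ o ≫ A.hom := Over.OverMorphism.ext (by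
    show (P ≫ pullback.fst _ _) ≫ o.left = (P ≫ pullback.snd _ _) ≫ (o ≫ A.hom).left
    rw [Category.assoc, Category.assoc, pullback.condition])
  let σ := P₁ ≫ snd G T
  let U := P₁ ≫ fst G T
  let V := P₂ ≫ fst G T
  have hos : o ≫ snd X T = snd G T := lift_snd _ _
  have hAs : A.hom ≫ snd X T = snd X T := lift_snd _ _
  have hσ : P₂ ≫ snd G T = σ := by
    rw [show σ = P₁ ≫ snd G T from rfl, ← hos, ← Category.assoc, ← Category.assoc, hPeq,
      Category.assoc, Category.assoc, Category.assoc, hAs]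
  have hxσ : σ ≫ xT = toUnit _ ≫ x := by
    rw [show xT = toUnit T ≫ x from rfl, ← Category.assoc, comp_toUnit]
  have hof : ∀ P : Over.mk t' ⟶ G ⊗ T, P ≫ snd G T = σ →
      (P ≫ o) ≫ fst X T = lift (P ≫ fst G T) (toUnit _ ≫ x) ≫ a.act ∧ (P ≫ o) ≫ snd X T = σ := fun P hP' => by
    refine ⟨?_, by rw [Category.assoc, hos, hP']⟩
    rw [Category.assoc, show o ≫ fst X T = lift (fst G T) (snd G T ≫ xT) ≫ a.act from lift_fst _ _,
      ← Category.assoc, comp_lift, ← Category.assoc P (snd G T), hP', hxσ]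
  have heq : lift U (toUnit _ ≫ x) ≫ a.act = lift (σ ≫ g) (lift V (toUnit _ ≫ x) ≫ a.act) ≫ a.act := by
    refine (hof P₁ rfl).1.symm.trans ?_
    rw [hPeq, ← Category.assoc P₂ o A.hom, Category.assoc (P₂ ≫ o),
      show A.hom ≫ fst X T = lift (snd X T ≫ g) (fst X T) ≫ a.act from lift_fst _ _,
      ← Category.assoc, comp_lift, ← Category.assoc (P₂ ≫ o) (snd X T), (hof P₂ hσ).1, (hof P₂ hσ).2]
  have hP1 : P₁.left (IsLocalRing.closedPoint M) = ηT :=
    (Scheme.Hom.comp_apply _ _ _).trans ((congrArg (pullback.fst o.left (o ≫ A.hom).left) hP).trans hz₁)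
  have hP2 : P₂.left (IsLocalRing.closedPoint M) = ηT :=
    (Scheme.Hom.comp_apply _ _ _).trans ((congrArg (pullback.snd o.left (o ≫ A.hom).left) hP).trans hz₂)
  have hmemU : InNeutral U := InNeutral.of_eq hη₀ he (specializes_of_eq
    (((Scheme.Hom.comp_apply _ _ _).trans ((congrArg (fst G T).left hP1).trans hfη)).symm))
  have hmemV : InNeutral V := InNeutral.of_eq hη₀ he (specializes_of_eq
    (((Scheme.Hom.comp_apply _ _ _).trans ((congrArg (fst G T).left hP2).trans hfη)).symm))
  let q : Over.mk t' ⟶ G := (σ ≫ g) * V⁻¹ * (σ ≫ g)⁻¹ * U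
  have hq : lift q (toUnit _ ≫ x) ≫ a.act = σ ≫ lift g xT ≫ a.act := by
    rw [← Category.assoc, comp_lift, hxσ]
    show lift ((σ ≫ g) * V⁻¹ * (σ ≫ g)⁻¹ * U) _ ≫ a.act = _
    rw [Groth.AlgGrp2.lift_mul_act, heq, Groth.AlgGrp2.lift_mul_act, Groth.AlgGrp2.lift_inv_act,
      Groth.AlgGrp2.lift_mul_act, Groth.AlgGrp2.lift_inv_act]
  refine ⟨q.left (IsLocalRing.closedPoint M),
    (((hmemV.inv.conj (σ ≫ g)).mul hmemU)).mem hη₀ he, ?_⟩
  refine ((congr(($((comp_orbitMap a x q).trans hq)).left.base (IsLocalRing.closedPoint M))).trans ?_)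
  exact (congrArg (lift g xT ≫ a.act).left (Subsingleton.elim (α := ↥(Spec (CommRingCat.of K))) _ _)).trans hyT

end Groth.Sga3.OrbitComp
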